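import Mathlib

set_option autoImplicit false
universe v u
open CategoryTheory CategoryTheory.Limits AlgebraicGeometry Opposite

/-!
# Topologies on schemes over a base generated by Zariski covers and a class `C` of morphisms
-/

namespace Groth.Agent.BigTop96

/-- Being covering for the topology generated by `C` and Zariski coverings. -/
def Cov {S : Scheme.{u}} (C : MorphismProperty Scheme.{u}) (X : Over S) (R : Sieve X) : Prop :=
  ∃ (ι : Type u) (U : ι → X.left.Opens), (∀ i, IsAffineOpen (U i)) ∧ ⨆ i, U i = ⊤ ∧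
    ∀ i, ∃ (κ : Type u) (_ : Finite κ) (V : κ → Over S) (φ : ∀ j, V j ⟶ X)
      (ψ : ∀ j, (V j).left ⟶ (U i : Scheme.{u})),
      (∀ j, IsAffine (V j).left) ∧ (∀ j, R.arrows (φ j)) ∧
      (∀ j, ψ j ≫ (U i).ι = (φ j).left) ∧ C (Limits.Sigma.desc ψ)

variable {C : MorphismProperty Scheme.{u}}

section class_lemmas

variable [C.IsStableUnderComposition]

/-- Composition of finite families: if `∐ V j ⟶ U` and each `∐ W j m ⟶ V j` are in `C`,
then so is the composite family. -/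
lemma sigma_comp [C.RespectsIso]
    (hcoprod : ∀ (κ : Type u) [Finite κ] (A B : κ → Scheme.{u}) (f : ∀ j, A j ⟶ B j),
      (∀ j, C (f j)) → C (Limits.Sigma.map f))
    {κ : Type u} [Finite κ] {U : Scheme.{u}} (V : κ → Scheme.{u}) (ψ : ∀ j, V j ⟶ U)
    (hψ : C (Limits.Sigma.desc ψ)) (M : κ → Type u) [∀ j, Finite (M j)]
    (W : ∀ j, M j → Scheme.{u}) (χ : ∀ j m, W j m ⟶ V j)
    (hχ : ∀ j, C (Limits.Sigma.desc (χ j))) :
    C (Limits.Sigma.desc fun p : (Σ j, M j) => χ p.1 p.2 ≫ ψ p.1) := by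
  have h := C.comp_mem _ _ (hcoprod κ _ _ (fun j => Limits.Sigma.desc (χ j)) hχ) hψ
  have h' : C ((sigmaSigmaIso M W).inv ≫
      Limits.Sigma.map (fun j => Limits.Sigma.desc (χ j)) ≫ Limits.Sigma.desc ψ) :=
    (C.cancel_left_of_respectsIso _ _).2 h
  convert h' using 1
  refine Limits.Sigma.hom_ext _ _ fun p => ?_
  simp

omit [C.IsStableUnderComposition] in
/-- A one-element family given by an isomorphism is in `C`. -/
lemma single_iso [C.RespectsIso]
    (haff : ∀ (U : Scheme.{u}) [IsAffine U] (κ : Type u) [Finite κ] (V : κ → U.Opens),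
      (∀ j, IsAffineOpen (V j)) → ⨆ j, V j = ⊤ → C (Limits.Sigma.desc fun j => (V j).ι))
    {U W : Scheme.{u}} [IsAffine U] (e : W ⟶ U) [IsIso e] :
    C (Limits.Sigma.desc fun _ : PUnit.{u + 1} => e) := by
  have h := haff U PUnit.{u + 1} (fun _ => ⊤) (fun _ => isAffineOpen_top U) (by simp)
  let a : W ⟶ ((⊤ : U.Opens) : Scheme.{u}) := e ≫ U.topIso.inv
  have ha : a ≫ (⊤ : U.Opens).ι = e := by
    rw [← Scheme.topIso_hom]; simp [a]
  have : IsIso (Limits.Sigma.map fun _ : PUnit.{u + 1} => a) := inferInstance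
  have h' := (C.cancel_left_of_respectsIso (Limits.Sigma.map fun _ : PUnit.{u + 1} => a) _).2 h
  convert h' using 1
  refine Limits.Sigma.hom_ext _ _ fun p => ?_
  simp [ha]

omit [C.IsStableUnderComposition] in
/-- Base change of a finite family in `C`. -/
lemma sigma_pullback [C.IsStableUnderBaseChange] {κ : Type u} [Finite κ] {U W : Scheme.{u}}
    (V : κ → Scheme.{u}) (ψ : ∀ j, V j ⟶ U) (g : W ⟶ U) (hψ : C (Limits.Sigma.desc ψ)) :
    C (Limits.Sigma.desc fun j => pullback.snd (ψ j) g) := by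
  let σ : (∐ fun _ : PUnit.{u + 1} => W) ≅ W :=
    { hom := Limits.Sigma.desc fun _ => 𝟙 W
      inv := Limits.Sigma.ι (fun _ : PUnit.{u + 1} => W) ⟨⟩
      hom_inv_id := Limits.Sigma.hom_ext _ _ fun p => by cases p; simp
      inv_hom_id := by simp }
  have hsq := FinitaryPreExtensive.isPullback_sigmaDesc ψ (fun _ : PUnit.{u + 1} => g)
  have hg : IsPullback (Limits.Sigma.desc fun p : κ × PUnit.{u + 1} =>
        pullback.fst (ψ p.1) g ≫ Limits.Sigma.ι V p.1)
      (Limits.Sigma.desc fun p : κ × PUnit.{u + 1} => pullback.snd (ψ p.1) g)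
      (Limits.Sigma.desc ψ) g := by
    refine hsq.of_iso (Iso.refl _) (Iso.refl _)
      σ (Iso.refl _) ?_ ?_ ?_ ?_
    · simp
    · refine Limits.Sigma.hom_ext _ _ fun p => ?_
      simp [σ]
    · simp
    · refine Limits.Sigma.hom_ext _ _ fun p => ?_
      simp [σ]
  have h := C.of_isPullback hg hψ
  obtain ⟨ρ, hρ⟩ : ∃ ρ : (∐ fun j : κ => pullback (ψ j) g) ≅
      (∐ fun p : κ × PUnit.{u + 1} => pullback (ψ p.1) g), ∀ j,
      Limits.Sigma.ι (fun j : κ => pullback (ψ j) g) j ≫ ρ.hom =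
        Limits.Sigma.ι (fun p : κ × PUnit.{u + 1} => pullback (ψ p.1) g) (j, ⟨⟩) :=
    ⟨{ hom := Limits.Sigma.desc fun j =>
        Limits.Sigma.ι (fun p : κ × PUnit.{u + 1} => pullback (ψ p.1) g) (j, ⟨⟩)
       inv := Limits.Sigma.desc fun p => Limits.Sigma.ι (fun j : κ => pullback (ψ j) g) p.1
       hom_inv_id := Limits.Sigma.hom_ext _ _ fun j => by simp
       inv_hom_id := Limits.Sigma.hom_ext _ _ fun ⟨j, ⟨⟩⟩ => by simp }, fun j => by simp⟩
  have h' := (C.cancel_left_of_respectsIso ρ.hom _).2 h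
  have he : (Limits.Sigma.desc fun j => pullback.snd (ψ j) g) =
      ρ.hom ≫ Limits.Sigma.desc fun p : κ × PUnit.{u + 1} => pullback.snd (ψ p.1) g :=
    Limits.Sigma.hom_ext _ _ fun j => by simp [reassoc_of% hρ]
  rw [he]
  exact h'

end class_lemmas

/-- A finite affine open cover of a quasi-compact scheme. -/
lemma exists_finite_affine_cover (X : Scheme.{u}) [CompactSpace X] :
    ∃ (κ : Type u) (_ : Finite κ) (A : κ → X.Opens), (∀ l, IsAffineOpen (A l)) ∧ ⨆ l, A l = ⊤ := by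
  have hcov : (Set.univ : Set X) ⊆ ⋃ i : X.affineOpens, ((i : X.Opens) : Set X) := by
    intro x _
    have hx : x ∈ (⨆ i : X.affineOpens, (i : X.Opens)) := by
      rw [iSup_affineOpens_eq_top]; trivial
    simpa [TopologicalSpace.Opens.mem_iSup] using hx
  obtain ⟨t, ht⟩ := isCompact_univ.elim_finite_subcover _ (fun i : X.affineOpens => i.1.isOpen) hcov
  refine ⟨t, inferInstance, fun l => l.1.1, fun l => l.1.2, ?_⟩
  refine top_le_iff.1 fun x _ => ?_
  obtain ⟨i, hi, hxi⟩ := Set.mem_iUnion₂.1 (ht (Set.mem_univ x))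
  exact TopologicalSpace.Opens.mem_iSup.2 ⟨⟨i, hi⟩, hxi⟩

end Groth.Agent.BigTop96
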