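import Groth.Agent.BigTop96.Top

set_option autoImplicit false
universe v u
open CategoryTheory CategoryTheory.Limits AlgebraicGeometry Opposite

namespace Groth.Agent.BigTop96

variable {S : Scheme.{u}} {C : MorphismProperty Scheme.{u}}

/-- Zariski coverings are coverings. -/
lemma cov_of_zariski [C.RespectsIso]
    (haff : ∀ (U : Scheme.{u}) [IsAffine U] (κ : Type u) [Finite κ] (V : κ → U.Opens),
      (∀ j, IsAffineOpen (V j)) → ⨆ j, V j = ⊤ → C (Limits.Sigma.desc fun j => (V j).ι))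
    {X : Over S} {R : Sieve X} (h : R ∈ (Scheme.zariskiTopology.over S) X) : Cov C X R := by
  rw [GrothendieckTopology.mem_over_iff, Scheme.mem_grothendieckTopology_iff] at h
  obtain ⟨𝒰, hle⟩ := h
  have hpt : ∀ x : X.left, ∃ (i : 𝒰.I₀) (W : X.left.Opens),
      IsAffineOpen W ∧ x ∈ W ∧ (W : Set X.left) ⊆ Set.range (𝒰.f i) := by
    intro x
    obtain ⟨i, y, hy⟩ := 𝒰.exists_eq x
    have : IsOpenImmersion (𝒰.f i) := 𝒰.map_prop i
    obtain ⟨W, hW, hxW, hWU⟩ := exists_isAffineOpen_mem_and_subset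
      (U := (𝒰.f i).opensRange) (x := x) ⟨y, hy⟩
    exact ⟨i, W, hW, hxW, hWU⟩
  choose i W hWa hxW hWU using hpt
  refine ⟨X.left, W, hWa, top_le_iff.1 fun x _ => TopologicalSpace.Opens.mem_iSup.2 ⟨x, hxW x⟩,
    fun x => ?_⟩
  have : IsAffine (W x : Scheme.{u}) := hWa x
  refine ⟨PUnit.{u + 1}, inferInstance, fun _ => Over.mk ((W x).ι ≫ X.hom),
    fun _ => Over.homMk (W x).ι, fun _ => 𝟙 _, fun _ => hWa x, fun _ => ?_, fun _ => by simp,
    single_iso haff (𝟙 (W x : Scheme.{u}))⟩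
  have hopen : IsOpenImmersion (𝒰.f (i x)) := 𝒰.map_prop _
  have hr := hle _ _ (Presieve.ofArrows.mk (i x))
  rw [show (Sieve.overEquiv X R).arrows (𝒰.f (i x)) ↔ _ from Sieve.overEquiv_iff R _] at hr
  have hsub : Set.range (W x).ι ⊆ Set.range (𝒰.f (i x)) := by
    rw [Scheme.Opens.range_ι]; exact hWU x
  have hlift := IsOpenImmersion.lift_fac (𝒰.f (i x)) (W x).ι hsub
  let a : Over.mk ((W x).ι ≫ X.hom) ⟶ Over.mk (𝒰.f (i x) ≫ X.hom) :=
    Over.homMk (IsOpenImmersion.lift (𝒰.f (i x)) (W x).ι hsub) (by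
      simp only [Over.mk_hom]; rw [← Category.assoc, hlift])
  have e : a ≫ (Over.homMk (𝒰.f (i x)) : Over.mk (𝒰.f (i x) ≫ X.hom) ⟶ X) =
      Over.homMk (W x).ι := Over.OverMorphism.ext (by simp [a])
  dsimp only
  rw [← e]
  exact R.downward_closed hr a

/-- The sieve of a morphism in `C` is covering. -/
lemma cov_singleton [C.IsStableUnderBaseChange]
    (hqc : ∀ {A B : Scheme.{u}} (f : A ⟶ B), C f → QuasiCompact f)
    (hres : ∀ (W X' : Scheme.{u}) [IsAffine W] (f : X' ⟶ W), C f →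
      ∀ (κ : Type u) [Finite κ] (A : κ → X'.Opens), (∀ l, IsAffineOpen (A l)) → ⨆ l, A l = ⊤ →
        C (Limits.Sigma.desc fun l => (A l).ι ≫ f))
    {X X' : Over S} (f : X' ⟶ X) (hf : C f.left) :
    Cov C X (Sieve.generate (Presieve.singleton f)) := by
  refine ⟨X.left.affineOpens, fun i => i.1, fun i => i.2, iSup_affineOpens_eq_top _, fun i => ?_⟩
  have : IsAffine (i.1 : Scheme.{u}) := i.2
  have hC : C (f.left ∣_ i.1) := C.of_isPullback (isPullback_morphismRestrict f.left i.1).flip hf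
  have hqc' := hqc _ hC
  have : CompactSpace ↥((f.left ⁻¹ᵁ i.1 : X'.left.Opens) : Scheme.{u}) :=
    QuasiCompact.compactSpace_of_compactSpace (f.left ∣_ i.1)
  obtain ⟨κ, hκ, A, hA, hAt⟩ :=
    exists_finite_affine_cover ((f.left ⁻¹ᵁ i.1 : X'.left.Opens) : Scheme.{u})
  refine ⟨κ, hκ, fun l => Over.mk (((A l).ι ≫ (f.left ⁻¹ᵁ i.1).ι) ≫ X'.hom),
    fun l => (Over.homMk ((A l).ι ≫ (f.left ⁻¹ᵁ i.1).ι) : _ ⟶ X') ≫ f,
    fun l => (A l).ι ≫ f.left ∣_ i.1, fun l => hA l, fun l => ?_, fun l => ?_,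
    hres _ _ (f.left ∣_ i.1) hC κ A hA hAt⟩
  · exact ⟨X', _, f, ⟨⟩, rfl⟩
  · simp

/-- Pullback of the sieve of a morphism in `C` is the sieve of a morphism in `C`. -/
lemma exists_pullback_singleton [C.IsStableUnderBaseChange] {X X' Y : Over S} (f : X' ⟶ X)
    (hf : C f.left) (g : Y ⟶ X) :
    ∃ (Y' : Over S) (f' : Y' ⟶ Y), C f'.left ∧
      (Sieve.generate (Presieve.singleton f)).pullback g =
        Sieve.generate (Presieve.singleton f') := by
  let Y' : Over S := Over.mk (pullback.snd f.left g.left ≫ Y.hom)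
  let f' : Y' ⟶ Y := Over.homMk (pullback.snd f.left g.left)
  refine ⟨Y', f', C.pullback_snd _ _ hf, ?_⟩
  ext Z h
  constructor
  · rintro ⟨W, a, q, ⟨⟩, e⟩
    have el : a.left ≫ f.left = h.left ≫ g.left := congrArg CommaMorphism.left e
    let b : Z ⟶ Y' := Over.homMk (pullback.lift a.left h.left el) (by
      simp only [Y', Over.mk_hom]
      erw [pullback.lift_snd_assoc]
      exact Over.w h)
    exact ⟨Y', b, f', ⟨⟩, Over.OverMorphism.ext (pullback.lift_snd _ _ _)⟩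
  · rintro ⟨W, b, q, ⟨⟩, rfl⟩
    have hw : pullback.fst f.left g.left ≫ X'.hom = Y'.hom := by
      rw [← Over.w f, pullback.condition_assoc, Over.w g]
      rfl
    let c : Y' ⟶ X' := Over.homMk (pullback.fst f.left g.left) hw
    have ec : c ≫ f = f' ≫ g := Over.OverMorphism.ext (by simp [c, f', pullback.condition])
    exact ⟨X', b ≫ c, f, ⟨⟩, by rw [Category.assoc, ec]; simp⟩

/-- The sheaf criterion, hard direction. -/
lemma mem_finest [C.IsStableUnderBaseChange] (F : (Over S)ᵒᵖ ⥤ Type v)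
    (hZ : Presieve.IsSheaf (Scheme.zariskiTopology.over S) F)
    (hs : ∀ (X X' : Over S) (f : X' ⟶ X), C f.left →
      Presieve.IsSheafFor F (Presieve.singleton f))
    {X : Over S} {R : Sieve X} (hR : Cov C X R) :
    R ∈ Sheaf.finestTopologySingle F X := by
  let K := Sheaf.finestTopologySingle F
  have hzar : ∀ {Y : Over S} {T : Sieve Y},
      T ∈ (Scheme.zariskiTopology.over S) Y → T ∈ K Y :=
    fun hT Z g => hZ _ ((Scheme.zariskiTopology.over S).pullback_stable g hT)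
  have hC : ∀ {Y Y' : Over S} (f : Y' ⟶ Y), C f.left →
      Sieve.generate (Presieve.singleton f) ∈ K Y := by
    intro Y Y' f hf Z g
    obtain ⟨Z', f', hf', e⟩ := exists_pullback_singleton f hf g
    rw [e]
    exact (Presieve.isSheafFor_iff_generate _).1 (hs _ _ f' hf')
  obtain ⟨ι, U, hUa, hU, hfam⟩ := hR
  -- restriction to the opens of the cover
  let Z : ι → Over S := fun i => Over.mk ((U i).ι ≫ X.hom)
  let z : ∀ i, Z i ⟶ X := fun i => Over.homMk (U i).ι
  have hcov : Sieve.ofArrows Z z ∈ (Scheme.zariskiTopology.over S) X := by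
    rw [GrothendieckTopology.mem_over_iff, Sieve.overEquiv_ofArrows]
    exact (X.left.openCoverOfIsOpenCover U hU).mem_grothendieckTopology
  refine K.transitive (hzar hcov) _ ?_
  intro Y g hg
  obtain ⟨W, a, q, ⟨i⟩, rfl⟩ := hg
  rw [Sieve.pullback_comp]
  refine K.pullback_stable a ?_
  obtain ⟨κ, hκ, V, φ, ψ, hVa, hRφ, hψ, hCψ⟩ := hfam i
  let Q : Over S := Over.mk (Limits.Sigma.desc fun j => (V j).hom)
  have hw : Limits.Sigma.desc ψ ≫ (Z i).hom = Q.hom := by
    refine Limits.Sigma.hom_ext _ _ fun j => ?_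
    simp [Z, Q, ← Over.w (φ j), ← hψ j]
  let q : Q ⟶ Z i := Over.homMk (Limits.Sigma.desc ψ) hw
  refine K.transitive (hC q hCψ) _ ?_
  intro Y' g' hg'
  obtain ⟨W', a', q', ⟨⟩, rfl⟩ := hg'
  rw [Sieve.pullback_comp]
  refine K.pullback_stable a' ?_
  let ιQ : ∀ j, V j ⟶ Q := fun j =>
    Over.homMk (Limits.Sigma.ι (fun j => (V j).left) j) (by simp [Q])
  have hcovQ : Sieve.ofArrows V ιQ ∈ (Scheme.zariskiTopology.over S) Q := by
    rw [GrothendieckTopology.mem_over_iff, Sieve.overEquiv_ofArrows]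
    exact (sigmaOpenCover fun j => (V j).left).mem_grothendieckTopology
  refine K.transitive (hzar hcovQ) _ ?_
  intro Y'' g'' hg''
  obtain ⟨W'', a'', q'', ⟨j⟩, rfl⟩ := hg''
  rw [Sieve.pullback_comp]
  refine K.pullback_stable a'' ?_
  have hmem : ((R.pullback (z i)).pullback q).arrows (ιQ j) := by
    change R.arrows ((ιQ j ≫ q) ≫ z i)
    have e : (ιQ j ≫ q) ≫ z i = φ j := Over.OverMorphism.ext (by simp [ιQ, q, z, hψ j])
    rw [e]
    exact hRφ j
  rw [(Sieve.mem_iff_pullback_eq_top (ιQ j)).1 hmem]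
  exact K.top_mem _

theorem isSheaf_iff [C.IsStableUnderComposition] [C.IsStableUnderBaseChange]
    (hqc : ∀ {A B : Scheme.{u}} (f : A ⟶ B), C f → QuasiCompact f)
    (haff : ∀ (U : Scheme.{u}) [IsAffine U] (κ : Type u) [Finite κ] (V : κ → U.Opens),
      (∀ j, IsAffineOpen (V j)) → ⨆ j, V j = ⊤ → C (Limits.Sigma.desc fun j => (V j).ι))
    (hres : ∀ (W X' : Scheme.{u}) [IsAffine W] (f : X' ⟶ W), C f →
      ∀ (κ : Type u) [Finite κ] (A : κ → X'.Opens), (∀ l, IsAffineOpen (A l)) → ⨆ l, A l = ⊤ →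
        C (Limits.Sigma.desc fun l => (A l).ι ≫ f))
    (J : GrothendieckTopology (Over S)) (hJ : ∀ (X : Over S) (R : Sieve X), R ∈ J X ↔ Cov C X R)
    (F : (Over S)ᵒᵖ ⥤ Type v) :
    Presieve.IsSheaf J F ↔ (Presieve.IsSheaf (Scheme.zariskiTopology.over S) F ∧
      ∀ (X X' : Over S) (f : X' ⟶ X), C f.left →
        Presieve.IsSheafFor F (Presieve.singleton f)) := by
  constructor
  · intro h
    refine ⟨fun {X} R hR => h R ((hJ X R).2 (cov_of_zariski haff hR)), fun X X' f hf => ?_⟩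
    exact (Presieve.isSheafFor_iff_generate _).2
      (h _ ((hJ X _).2 (cov_singleton hqc hres f hf)))
  · rintro ⟨hZ, hs⟩ X R hR
    have h := mem_finest F hZ hs ((hJ X R).1 hR) X (𝟙 X)
    simpa using h

end Groth.Agent.BigTop96
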