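import Groth.Agent.BigTop96.Basic

set_option autoImplicit false
universe v u
open CategoryTheory CategoryTheory.Limits AlgebraicGeometry Opposite

namespace Groth.Agent.BigTop96

variable {S : Scheme.{u}} {C : MorphismProperty Scheme.{u}}

lemma cov_top [C.RespectsIso]
    (haff : ∀ (U : Scheme.{u}) [IsAffine U] (κ : Type u) [Finite κ] (V : κ → U.Opens),
      (∀ j, IsAffineOpen (V j)) → ⨆ j, V j = ⊤ → C (Limits.Sigma.desc fun j => (V j).ι))
    (X : Over S) : Cov C X ⊤ := by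
  refine ⟨X.left.affineOpens, fun i => i.1, fun i => i.2, iSup_affineOpens_eq_top _, fun i => ?_⟩
  have : IsAffine (i.1 : Scheme.{u}) := i.2
  refine ⟨PUnit.{u + 1}, inferInstance, fun _ => Over.mk (i.1.ι ≫ X.hom),
    fun _ => Over.homMk i.1.ι, fun _ => 𝟙 _, fun _ => ?_, fun _ => trivial, fun _ => by simp, ?_⟩
  · exact this
  · exact single_iso haff (𝟙 (i.1 : Scheme.{u}))

lemma cov_pullback [C.IsStableUnderBaseChange] {X Y : Over S} (f : Y ⟶ X) {R : Sieve X}
    (h : Cov C X R) : Cov C Y (R.pullback f) := by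
  obtain ⟨ι, U, hUa, hU, hfam⟩ := h
  have hpt : ∀ y : Y.left, ∃ (i : ι) (W : Y.left.Opens),
      IsAffineOpen W ∧ y ∈ W ∧ W ≤ f.left ⁻¹ᵁ U i := by
    intro y
    obtain ⟨i, hi⟩ : ∃ i, f.left.base y ∈ U i :=
      TopologicalSpace.Opens.mem_iSup.1 (by rw [hU]; trivial)
    obtain ⟨W, hW, hyW, hWU⟩ := exists_isAffineOpen_mem_and_subset
      (U := f.left ⁻¹ᵁ U i) (x := y) hi
    exact ⟨i, W, hW, hyW, hWU⟩
  choose i W hWa hyW hWU using hpt
  refine ⟨Y.left, W, hWa, ?_, fun y => ?_⟩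
  · exact top_le_iff.1 fun y _ => TopologicalSpace.Opens.mem_iSup.2 ⟨y, hyW y⟩
  obtain ⟨κ, hκ, V, φ, ψ, hVa, hR, hψ, hC⟩ := hfam (i y)
  let g : (W y : Scheme.{u}) ⟶ (U (i y) : Scheme.{u}) :=
    f.left.resLE (U (i y)) (W y) (hWU y)
  have hg : g ≫ (U (i y)).ι = (W y).ι ≫ f.left := by simp [g]
  let V' : κ → Over S := fun j => Over.mk (pullback.snd (ψ j) g ≫ (W y).ι ≫ Y.hom)
  let φ' : ∀ j, V' j ⟶ Y := fun j => Over.homMk (pullback.snd (ψ j) g ≫ (W y).ι) (by simp [V'])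
  refine ⟨κ, hκ, V', φ', fun j => pullback.snd (ψ j) g, fun j => ?_, fun j => ?_, fun j => ?_, ?_⟩
  · have : IsAffine (V j).left := hVa j
    have : IsAffine (U (i y) : Scheme.{u}) := hUa _
    have : IsAffine (W y : Scheme.{u}) := hWa y
    change IsAffine (pullback (ψ j) g)
    infer_instance
  · change R.arrows (φ' j ≫ f)
    have e : (pullback.fst (ψ j) g) ≫ (φ j).left = (φ' j ≫ f).left := by
      rw [← hψ j, pullback.condition_assoc, hg]
      simp [φ']
    have hw : pullback.fst (ψ j) g ≫ (V j).hom = (V' j).hom := by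
      have h1 := Over.w (φ j)
      have h2 := Over.w (φ' j ≫ f)
      rw [← h1, ← h2, ← e, Category.assoc]
    have e' : (Over.homMk (pullback.fst (ψ j) g) hw : V' j ⟶ V j) ≫ φ j = φ' j ≫ f :=
      Over.OverMorphism.ext (by simpa using e)
    rw [← e']
    exact R.downward_closed (hR j) _
  · rfl
  · exact sigma_pullback _ ψ g hC

lemma cov_trans [C.IsStableUnderComposition] [C.RespectsIso]
    (hcoprod : ∀ (κ : Type u) [Finite κ] (A B : κ → Scheme.{u}) (f : ∀ j, A j ⟶ B j),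
      (∀ j, C (f j)) → C (Limits.Sigma.map f))
    (haff : ∀ (U : Scheme.{u}) [IsAffine U] (κ : Type u) [Finite κ] (V : κ → U.Opens),
      (∀ j, IsAffineOpen (V j)) → ⨆ j, V j = ⊤ → C (Limits.Sigma.desc fun j => (V j).ι))
    {X : Over S} {R T : Sieve X} (hR : Cov C X R)
    (hT : ∀ ⦃Y : Over S⦄ ⦃f : Y ⟶ X⦄, R.arrows f → Cov C Y (T.pullback f)) : Cov C X T := by
  obtain ⟨ι, U, hUa, hU, hfam⟩ := hR
  refine ⟨ι, U, hUa, hU, fun i => ?_⟩
  obtain ⟨κ, hκ, V, φ, ψ, hVa, hRφ, hψ, hC⟩ := hfam i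
  choose lam A hAa hA hfam' using fun j => hT (hRφ j)
  choose M hM W χφ χ hWa hTχ hχ hCχ using hfam'
  -- finite subcovers
  have hfin : ∀ j, ∃ t : Finset (lam j), ⨆ l : (t : Set (lam j)), A j l.1 = ⊤ := by
    intro j
    have := hVa j
    have hcov : (Set.univ : Set (V j).left) ⊆ ⋃ l, (A j l : Set (V j).left) := by
      intro x _
      have hx : x ∈ (⨆ l, A j l) := by rw [hA j]; trivial
      simpa [TopologicalSpace.Opens.mem_iSup] using hx
    obtain ⟨t, ht⟩ := isCompact_univ.elim_finite_subcover _ (fun l => (A j l).isOpen) hcov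
    refine ⟨t, top_le_iff.1 fun x _ => ?_⟩
    obtain ⟨l, hl, hxl⟩ := Set.mem_iUnion₂.1 (ht (Set.mem_univ x))
    exact TopologicalSpace.Opens.mem_iSup.2 ⟨⟨l, hl⟩, hxl⟩
  choose t ht using hfin
  have : ∀ j, ∀ l : (t j : Set (lam j)), Finite (M j l.1) := fun j l => hM j l.1
  -- inner composite
  have h1 : ∀ j, C (Limits.Sigma.desc fun p : (Σ l : (t j : Set (lam j)), M j l.1) =>
      χ j p.1.1 p.2 ≫ (A j p.1.1).ι) := by
    intro j
    have := hVa j
    exact sigma_comp hcoprod (fun l : (t j : Set (lam j)) => (A j l.1 : Scheme.{u}))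
      (fun l => (A j l.1).ι)
      (haff (V j).left _ (fun l : (t j : Set (lam j)) => A j l.1) (fun l => hAa j l.1) (ht j))
      (fun l => M j l.1) (fun l m => (W j l.1 m).left) (fun l m => χ j l.1 m)
      (fun l => hCχ j l.1)
  have h2 := sigma_comp hcoprod (fun j => (V j).left) ψ hC
    (fun j => Σ l : (t j : Set (lam j)), M j l.1) (fun j p => (W j p.1.1 p.2).left)
    (fun j p => χ j p.1.1 p.2 ≫ (A j p.1.1).ι) h1
  refine ⟨Σ j, Σ l : (t j : Set (lam j)), M j l.1, inferInstance,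
    fun p => W p.1 p.2.1.1 p.2.2, fun p => χφ p.1 p.2.1.1 p.2.2 ≫ φ p.1,
    fun p => (χ p.1 p.2.1.1 p.2.2 ≫ (A p.1 p.2.1.1).ι) ≫ ψ p.1,
    fun p => hWa _ _ _, fun p => hTχ _ _ _, fun p => ?_, h2⟩
  simp [hψ, hχ]

/-- The topology generated by Zariski coverings and `C`. -/
def topology [C.IsStableUnderComposition] [C.IsStableUnderBaseChange]
    (hcoprod : ∀ (κ : Type u) [Finite κ] (A B : κ → Scheme.{u}) (f : ∀ j, A j ⟶ B j),
      (∀ j, C (f j)) → C (Limits.Sigma.map f))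
    (haff : ∀ (U : Scheme.{u}) [IsAffine U] (κ : Type u) [Finite κ] (V : κ → U.Opens),
      (∀ j, IsAffineOpen (V j)) → ⨆ j, V j = ⊤ → C (Limits.Sigma.desc fun j => (V j).ι)) :
    GrothendieckTopology (Over S) where
  sieves X := {R | Cov C X R}
  top_mem' X := cov_top haff X
  pullback_stable' _ _ _ f h := cov_pullback f h
  transitive' _ _ hR _ hT := cov_trans hcoprod haff hR hT

end Groth.Agent.BigTop96
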